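import Groth.Prelude.Def_W4c1liftfrobW2
import Mathlib.RingTheory.Flat.Tensor
import Mathlib.FieldTheory.Perfect
import Mathlib.RingTheory.WittVector.Teichmuller

/-!
# The ring `W₂(R)` of Witt vectors of length two

Coordinates (`tm a = (a, 0)`, `vz b = (0, b)`), the formulas for the second coefficient of sums and products, the
ghost map `gh`, multiplication by `p` in characteristic `p`, flatness over `W₂(k)` (`flat_iff`), and the map
`wlift : W₂(A) → B`, `(a₀, a₁) ↦ ã₀^p + p ã₁` for a square-zero thickening `B → A` by `(p)`.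
-/

set_option autoImplicit false
set_option linter.unusedSectionVars false
open TensorProduct

namespace Groth.Agent.WittTwo

variable (p : ℕ) [Fact p.Prime]

section general

variable {R S : Type*} [CommRing R] [CommRing S]

/-- `(a, b)`. -/
def mk2 (a b : R) : TruncatedWittVector p 2 R := TruncatedWittVector.mk p ![a, b]

@[simp] theorem mk2_coeff_zero (a b : R) : (mk2 p a b).coeff 0 = a := rfl
@[simp] theorem mk2_coeff_one (a b : R) : (mk2 p a b).coeff 1 = b := rfl

theorem ext2 {x y : TruncatedWittVector p 2 R} (h0 : x.coeff 0 = y.coeff 0) (h1 : x.coeff 1 = y.coeff 1) :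
    x = y :=
  TruncatedWittVector.ext fun i => by
    match i with
    | 0 => exact h0
    | 1 => exact h1

/-- `(a, 0)`. -/
noncomputable def tm (a : R) : TruncatedWittVector p 2 R := WittVector.truncate 2 (WittVector.teichmuller p a)

/-- `(0, b)`. -/
noncomputable def vz (b : R) : TruncatedWittVector p 2 R :=
  WittVector.truncate 2 (WittVector.verschiebung (WittVector.teichmuller p b))

@[simp] theorem tm_coeff_zero (a : R) : (tm p a).coeff 0 = a := by
  simp [tm, WittVector.coeff_truncate]

@[simp] theorem tm_coeff_one (a : R) : (tm p a).coeff 1 = 0 := by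
  simp [tm, WittVector.coeff_truncate]

@[simp] theorem vz_coeff_zero (b : R) : (vz p b).coeff 0 = 0 := by
  simp [vz, WittVector.coeff_truncate, WittVector.verschiebung_coeff_zero]

@[simp] theorem vz_coeff_one (b : R) : (vz p b).coeff 1 = b := by
  simp only [vz, WittVector.coeff_truncate, Fin.val_one]
  rw [show (1 : ℕ) = Nat.succ 0 from rfl, WittVector.verschiebung_coeff_succ]
  exact WittVector.teichmuller_coeff_zero p b

theorem coeff0_add (x y : TruncatedWittVector p 2 R) : (x + y).coeff 0 = x.coeff 0 + y.coeff 0 := by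
  simpa using map_add (FrobAlg.res p R) x y

theorem coeff0_mul (x y : TruncatedWittVector p 2 R) : (x * y).coeff 0 = x.coeff 0 * y.coeff 0 := by
  simpa using map_mul (FrobAlg.res p R) x y

theorem coeff0_one : (1 : TruncatedWittVector p 2 R).coeff 0 = 1 := by
  simpa using map_one (FrobAlg.res p R)

theorem coeff1_one : (1 : TruncatedWittVector p 2 R).coeff 1 = 0 := by
  rw [← map_one (WittVector.truncate (p := p) (R := R) 2), WittVector.coeff_truncate,
    WittVector.one_coeff_eq_of_pos _ _ _ (by simp)]

theorem tm_add_vz_coeff_one (a b : R) : (tm p a + vz p b).coeff 1 = b := by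
  rw [tm, vz, ← map_add, WittVector.coeff_truncate, Fin.val_one, WittVector.coeff_add_of_disjoint]
  · rw [show (1 : ℕ) = Nat.succ 0 from rfl, WittVector.verschiebung_coeff_succ]
    simp
  · intro n
    cases n with
    | zero => exact Or.inr (WittVector.verschiebung_coeff_zero _)
    | succ n => exact Or.inl (WittVector.teichmuller_coeff_pos p a _ n.succ_pos)

theorem decomp (x : TruncatedWittVector p 2 R) : x = tm p (x.coeff 0) + vz p (x.coeff 1) :=
  ext2 p (by simp [coeff0_add]) (by rw [tm_add_vz_coeff_one])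

theorem vz_add (a b : R) : vz p (a + b) = vz p a + vz p b := by
  refine ext2 p (by simp [coeff0_add]) ?_
  rw [vz_coeff_one]
  simp only [vz]
  rw [← map_add (WittVector.truncate 2), ← map_add WittVector.verschiebung, WittVector.coeff_truncate,
    Fin.val_one, show (1 : ℕ) = Nat.succ 0 from rfl, WittVector.verschiebung_coeff_succ,
    WittVector.add_coeff_zero]
  simp

theorem tm_mul (a b : R) : tm p (a * b) = tm p a * tm p b := by
  simp [tm, map_mul]

/-- The correction term in the addition law of `W₂`. -/
noncomputable def wc (a b : R) : R := (tm p a + tm p b).coeff 1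

theorem coeff1_add (x y : TruncatedWittVector p 2 R) :
    (x + y).coeff 1 = x.coeff 1 + y.coeff 1 + wc p (x.coeff 0) (y.coeff 0) := by
  have key : x + y = tm p (x.coeff 0 + y.coeff 0) +
      vz p (wc p (x.coeff 0) (y.coeff 0) + (x.coeff 1 + y.coeff 1)) := by
    conv_lhs => rw [decomp p x, decomp p y]
    rw [add_add_add_comm, ← vz_add, decomp p (tm p (x.coeff 0) + tm p (y.coeff 0)), coeff0_add,
      tm_coeff_zero, tm_coeff_zero, add_assoc, ← vz_add]
    rfl
  rw [key, tm_add_vz_coeff_one]
  ring

theorem truncMap_tm (f : R →+* S) (a : R) : WittGrp.truncMap p 2 f (tm p a) = tm p (f a) := by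
  rw [tm, WittGrp.truncMap_truncate, WittVector.map_teichmuller]
  rfl

theorem wc_map (f : R →+* S) (a b : R) : wc p (f a) (f b) = f (wc p a b) := by
  rw [wc, wc, ← truncMap_tm, ← truncMap_tm, ← map_add, WittGrp.coeff_truncMap]

/-- The first ghost component. -/
noncomputable def gh : TruncatedWittVector p 2 R →+* R :=
  RingHom.liftOfSurjective (WittVector.truncate 2) (WittVector.truncate_surjective p 2 R)
    ⟨WittVector.ghostComponent 1, fun x hx => by
      have h := (WittVector.mem_ker_truncate 2 x).1 hx
      rw [RingHom.mem_ker, WittVector.ghostComponent_apply, aeval_wittPolynomial,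
        Finset.sum_range_succ, Finset.sum_range_succ, Finset.sum_range_zero]
      simp [h 0 (by omega), h 1 (by omega), (Fact.out : p.Prime).ne_zero]⟩

theorem gh_truncate (X : WittVector p R) :
    gh p (WittVector.truncate 2 X) = WittVector.ghostComponent 1 X :=
  RingHom.liftOfRightInverse_comp_apply _ _ _ _ X

theorem gh_apply (x : TruncatedWittVector p 2 R) : gh p x = x.coeff 0 ^ p + p * x.coeff 1 := by
  obtain ⟨X, rfl⟩ := WittVector.truncate_surjective p 2 R x
  rw [gh_truncate, WittVector.ghostComponent_apply, aeval_wittPolynomial,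
    Finset.sum_range_succ, Finset.sum_range_succ, Finset.sum_range_zero,
    WittVector.coeff_truncate, WittVector.coeff_truncate]
  simp

theorem vz_mul (a : R) (y : TruncatedWittVector p 2 R) :
    vz p a * y = vz p (a * (y.coeff 0 ^ p + p * y.coeff 1)) := by
  obtain ⟨Y, rfl⟩ := WittVector.truncate_surjective p 2 R y
  have e : vz p a * WittVector.truncate 2 Y = WittVector.truncate 2
      (WittVector.verschiebung (WittVector.teichmuller p a * WittVector.frobenius Y)) := by
    rw [vz, ← map_mul, WittVector.verschiebung_mul_frobenius]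
  refine ext2 p (by simp [coeff0_mul]) ?_
  rw [vz_coeff_one, e, ← gh_apply, gh_truncate, WittVector.coeff_truncate, Fin.val_one,
    show (1 : ℕ) = Nat.succ 0 from rfl, WittVector.verschiebung_coeff_succ, WittVector.mul_coeff_zero,
    WittVector.teichmuller_coeff_zero]
  congr 1
  rw [← WittVector.ghostComponent_frobenius, WittVector.ghostComponent_apply, aeval_wittPolynomial,
    Finset.sum_range_succ, Finset.sum_range_zero]
  simp

theorem coeff1_mul (x y : TruncatedWittVector p 2 R) :
    (x * y).coeff 1 =
      x.coeff 0 ^ p * y.coeff 1 + x.coeff 1 * y.coeff 0 ^ p + p * (x.coeff 1 * y.coeff 1) := by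
  have h1 : tm p (x.coeff 0) * vz p (y.coeff 1) = vz p (y.coeff 1 * x.coeff 0 ^ p) := by
    rw [mul_comm, vz_mul]; simp
  have key : x * y = tm p (x.coeff 0 * y.coeff 0) +
      vz p (y.coeff 1 * x.coeff 0 ^ p + x.coeff 1 * (y.coeff 0 ^ p + p * y.coeff 1)) := by
    conv_lhs => rw [decomp p x]
    rw [add_mul, vz_mul, vz_add, tm_mul, ← h1, ← add_assoc, ← mul_add, ← decomp p y]
  rw [key, tm_add_vz_coeff_one]
  ring

theorem natCast_coeff (hp : (p : R) = 0) :
    (p : TruncatedWittVector p 2 R).coeff 0 = 0 ∧ (p : TruncatedWittVector p 2 R).coeff 1 = 1 := by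
  rcases subsingleton_or_nontrivial R with hR | hR
  · exact ⟨Subsingleton.elim _ _, Subsingleton.elim _ _⟩
  · have : CharP R p := (CharP.charP_iff_prime_eq_zero Fact.out).mpr hp
    rw [← map_natCast (WittVector.truncate (p := p) (R := R) 2) p]
    exact ⟨by rw [WittVector.coeff_truncate]; exact WittVector.coeff_p_zero p R,
      by rw [WittVector.coeff_truncate]; exact WittVector.coeff_p_one p R⟩

theorem natCast_eq_vz (hp : (p : R) = 0) : (p : TruncatedWittVector p 2 R) = vz p 1 :=
  ext2 p (by simp [(natCast_coeff p hp).1]) (by simp [(natCast_coeff p hp).2])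

theorem p_mul (hp : (p : R) = 0) (x : TruncatedWittVector p 2 R) :
    (p : TruncatedWittVector p 2 R) * x = vz p (x.coeff 0 ^ p) := by
  rw [natCast_eq_vz p hp, vz_mul]; simp [hp]

theorem p_sq (hp : (p : R) = 0) : (p : TruncatedWittVector p 2 R) * p = 0 := by
  rw [p_mul p hp, (natCast_coeff p hp).1, zero_pow (Fact.out : p.Prime).ne_zero]
  exact ext2 p (by simp) (by simp)

theorem truncMap_surjective {f : R →+* S} (hf : Function.Surjective f) :
    Function.Surjective (WittGrp.truncMap p 2 f) := fun y =>
  ⟨mk2 p (Function.surjInv hf (y.coeff 0)) (Function.surjInv hf (y.coeff 1)),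
    ext2 p (by simp [Function.surjInv_eq hf]) (by simp [Function.surjInv_eq hf])⟩

end general

section perfect

variable (k : Type*) [Field k] [CharP k p] [PerfectRing k p]

theorem exists_eq_p_mul {x : FrobAlg.W2 p k} (hx : x.coeff 0 = 0) : ∃ y, x = (p : FrobAlg.W2 p k) * y := by
  obtain ⟨c, hc⟩ := surjective_frobenius k p (x.coeff 1)
  refine ⟨tm p c, ext2 p ?_ ?_⟩
  · rw [p_mul p (CharP.cast_eq_zero k p), hx]; simp
  · rw [p_mul p (CharP.cast_eq_zero k p), vz_coeff_one, tm_coeff_zero, ← hc]; rfl

theorem ker_res : RingHom.ker (FrobAlg.res p k) = Ideal.span {(p : FrobAlg.W2 p k)} := by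
  refine le_antisymm (fun x hx => ?_) ?_
  · rw [RingHom.mem_ker, FrobAlg.res_apply] at hx
    obtain ⟨y, rfl⟩ := exists_eq_p_mul p k hx
    exact Ideal.mul_mem_right _ _ (Ideal.mem_span_singleton_self _)
  · rw [Ideal.span_le, Set.singleton_subset_iff, SetLike.mem_coe, RingHom.mem_ker, map_natCast,
      CharP.cast_eq_zero]

theorem isUnit_of_coeff0 {x : FrobAlg.W2 p k} (hx : x.coeff 0 ≠ 0) : IsUnit x := by
  have h1 : (x * tm p (x.coeff 0)⁻¹ - 1).coeff 0 = 0 := by
    have := map_sub (FrobAlg.res p k) (x * tm p (x.coeff 0)⁻¹) 1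
    simpa [coeff0_mul, coeff0_one, mul_inv_cancel₀ hx] using this
  obtain ⟨y, hy⟩ := exists_eq_p_mul p k h1
  have hn : IsNilpotent ((p : FrobAlg.W2 p k) * y) := ⟨2, by
    rw [mul_pow, pow_two, p_sq p (CharP.cast_eq_zero k p), zero_mul]⟩
  have : IsUnit (x * tm p (x.coeff 0)⁻¹) := by
    rw [eq_add_of_sub_eq' hy]; exact hn.isUnit_one_add
  exact isUnit_of_mul_isUnit_left this

theorem p_mul_eq_zero {x : FrobAlg.W2 p k} (hx : (p : FrobAlg.W2 p k) * x = 0) : x.coeff 0 = 0 := by
  rw [p_mul p (CharP.cast_eq_zero k p)] at hx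
  have := congrArg (TruncatedWittVector.coeff 1) hx
  rw [vz_coeff_one, TruncatedWittVector.coeff_zero] at this
  exact pow_eq_zero_iff (Fact.out : p.Prime).ne_zero |>.1 this

theorem flat_iff (M : Type*) [AddCommGroup M] [Module (FrobAlg.W2 p k) M] :
    Module.Flat (FrobAlg.W2 p k) M ↔
      ∀ m : M, (p : FrobAlg.W2 p k) • m = 0 → ∃ m' : M, m = (p : FrobAlg.W2 p k) • m' := by
  constructor
  · intro hM m hm
    let R := FrobAlg.W2 p k
    let f : R →ₗ[R] R := LinearMap.lsmul R R (p : R)
    have hf : Function.Exact f f := by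
      intro y
      refine ⟨fun hy => ?_, fun ⟨z, hz⟩ => ?_⟩
      · obtain ⟨z, rfl⟩ := exists_eq_p_mul p k (p_mul_eq_zero p k hy)
        exact ⟨z, rfl⟩
      · rw [← hz]
        change (p : R) * ((p : R) * z) = 0
        rw [← mul_assoc, p_sq p (CharP.cast_eq_zero k p), zero_mul]
    have hex := Module.Flat.lTensor_exact M hf
    have h0 : f.lTensor M (m ⊗ₜ[R] 1) = 0 := by
      rw [LinearMap.lTensor_tmul]
      change m ⊗ₜ[R] ((p : R) • (1 : R)) = 0
      rw [← TensorProduct.smul_tmul, hm, TensorProduct.zero_tmul]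
    obtain ⟨w, hw⟩ := (hex _).1 h0
    have key : ∀ w : M ⊗[R] R,
        TensorProduct.rid R M (f.lTensor M w) = (p : R) • TensorProduct.rid R M w := by
      intro w
      induction w using TensorProduct.induction_on with
      | zero => simp
      | tmul a b => simp [f, mul_smul]
      | add a b ha hb => simp only [map_add, ha, hb, smul_add]
    refine ⟨TensorProduct.rid R M w, ?_⟩
    rw [← key, hw]
    simp
  · intro h
    rw [Module.Flat.iff_rTensor_injective']
    intro I
    by_cases hu : ∃ x ∈ I, x.coeff 0 ≠ 0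
    · obtain ⟨x, hxI, hx⟩ := hu
      have hI : I = ⊤ := Ideal.eq_top_of_isUnit_mem I hxI (isUnit_of_coeff0 p k hx)
      subst hI
      exact (TensorProduct.congr Submodule.topEquiv (LinearEquiv.refl _ M)).injective
    push Not at hu
    by_cases hp0 : (p : FrobAlg.W2 p k) ∈ I
    · have hgen : ∀ z : I ⊗[FrobAlg.W2 p k] M, ∃ m, z = (⟨_, hp0⟩ : I) ⊗ₜ m := by
        intro z
        induction z using TensorProduct.induction_on with
        | zero => exact ⟨0, by simp⟩
        | tmul a b =>
          obtain ⟨y, hy⟩ := exists_eq_p_mul p k (hu a a.2)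
          refine ⟨y • b, ?_⟩
          rw [← TensorProduct.smul_tmul]
          congr 1
          exact Subtype.ext (by simp [hy, mul_comm])
        | add a b ha hb =>
          obtain ⟨m, rfl⟩ := ha
          obtain ⟨n, rfl⟩ := hb
          exact ⟨m + n, (TensorProduct.tmul_add _ _ _).symm⟩
      rw [injective_iff_map_eq_zero]
      intro z hz
      obtain ⟨m, rfl⟩ := hgen z
      have hm : (p : FrobAlg.W2 p k) • m = 0 := by
        simpa using congrArg (TensorProduct.lid (FrobAlg.W2 p k) M) hz
      obtain ⟨m', rfl⟩ := h m hm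
      rw [← TensorProduct.smul_tmul,
        show (p : FrobAlg.W2 p k) • (⟨_, hp0⟩ : I) = 0 from Subtype.ext (p_sq p (CharP.cast_eq_zero k p)),
        TensorProduct.zero_tmul]
    · have hI : I = ⊥ := by
        rw [Submodule.eq_bot_iff]
        intro x hx
        obtain ⟨y, rfl⟩ := exists_eq_p_mul p k (hu x hx)
        by_contra hne
        refine hp0 ?_
        have hy : y.coeff 0 ≠ 0 := fun hy => by
          obtain ⟨z, rfl⟩ := exists_eq_p_mul p k hy
          exact hne (by rw [← mul_assoc, p_sq p (CharP.cast_eq_zero k p), zero_mul])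
        exact (Ideal.mul_unit_mem_iff_mem I (isUnit_of_coeff0 p k hy)).1 hx
      subst hI
      exact Function.injective_of_subsingleton _

end perfect

end Groth.Agent.WittTwo
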