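import Groth.Agent.WittTwo.Basic

/-!
# Liftings over `W₂(k)`: basic consequences of `IsLift`, and Frobenius lifts versus maps to `W₂(A)`
-/

set_option autoImplicit false
set_option linter.unusedSectionVars false

universe v

namespace Groth.Agent.WittTwo

variable (p : ℕ) [Fact p.Prime]

section wlift

variable {A B : Type*} [CommRing A] [CommRing B] (π : B →+* A)
  (hπ : Function.Surjective π) (hker : RingHom.ker π = Ideal.span {(p : B)})
  (hp2 : (p : B) * p = 0)

include hker hp2 in
/-- `W₂(A) → B`, `(a₀, a₁) ↦ ã₀^p + p ã₁`. -/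
noncomputable def wlift : TruncatedWittVector p 2 A →+* B :=
  RingHom.liftOfSurjective (WittGrp.truncMap p 2 π) (truncMap_surjective p hπ)
    ⟨gh p, fun y hy => by
      rw [RingHom.mem_ker] at hy
      have h0 : π (y.coeff 0) = 0 := by
        simpa using congrArg (TruncatedWittVector.coeff 0) hy
      have h1 : π (y.coeff 1) = 0 := by
        simpa using congrArg (TruncatedWittVector.coeff 1) hy
      rw [← RingHom.mem_ker, hker, Ideal.mem_span_singleton'] at h0 h1
      obtain ⟨u, hu⟩ := h0
      obtain ⟨v, hv⟩ := h1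
      have hpp : (p : B) ^ p = 0 :=
        pow_eq_zero_of_le (Fact.out : p.Prime).two_le (by rw [pow_two]; exact hp2)
      rw [RingHom.mem_ker, gh_apply, ← hu, ← hv, mul_pow, hpp,
        mul_zero, mul_comm v, ← mul_assoc, hp2, zero_mul, add_zero]⟩

theorem wlift_truncMap (y : TruncatedWittVector p 2 B) :
    wlift p π hπ hker hp2 (WittGrp.truncMap p 2 π y) = gh p y :=
  RingHom.liftOfRightInverse_comp_apply _ _ _ _ y

theorem wlift_mk2 (a b : B) : wlift p π hπ hker hp2 (mk2 p (π a) (π b)) = a ^ p + p * b := by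
  have : mk2 p (π a) (π b) = WittGrp.truncMap p 2 π (mk2 p a b) := ext2 p (by simp) (by simp)
  rw [this, wlift_truncMap, gh_apply]
  simp

include hπ hker hp2 in
theorem proj_wlift (x : TruncatedWittVector p 2 A) :
    π (wlift p π hπ hker hp2 x) = x.coeff 0 ^ p := by
  obtain ⟨y, rfl⟩ := truncMap_surjective p hπ x
  rw [wlift_truncMap, gh_apply, map_add, map_pow, map_mul, WittGrp.coeff_truncMap]
  have : π (p : B) = 0 := by rw [← RingHom.mem_ker, hker]; exact Ideal.mem_span_singleton_self _
  simp only [this, zero_mul, add_zero]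

end wlift

section lift

variable {k : Type*} [Field k] [CharP k p] [PerfectRing k p]
  {A B : Type v} [CommRing A] [Algebra k A] [CommRing B] {ι : FrobAlg.W2 p k →+* B} {π : B →+* A}

theorem p_eq_zero (A : Type v) [CommRing A] [Algebra k A] : (p : A) = 0 := by
  rw [← map_natCast (algebraMap k A), CharP.cast_eq_zero, map_zero]

theorem p_sq_of_hom (ι : FrobAlg.W2 p k →+* B) : (p : B) * p = 0 := by
  rw [← map_natCast ι, ← map_mul, p_sq p (CharP.cast_eq_zero k p), map_zero]

theorem map_ker_res (ι : FrobAlg.W2 p k →+* B) :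
    Ideal.map ι (RingHom.ker (FrobAlg.res p k)) = Ideal.span {(p : B)} := by
  rw [ker_res, Ideal.map_span, Set.image_singleton, map_natCast]

theorem flat_hom_iff (ι : FrobAlg.W2 p k →+* B) :
    ι.Flat ↔ ∀ b : B, (p : B) * b = 0 → ∃ c : B, b = (p : B) * c := by
  unfold RingHom.Flat
  letI := ι.toAlgebra
  rw [flat_iff p k B]
  simp only [Algebra.smul_def, map_natCast]

theorem exists_p_mul_of_p_mul_eq_zero (h : FrobAlg.IsLift p k A B ι π) {b : B} (hb : (p : B) * b = 0) :
    ∃ c : B, b = (p : B) * c :=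
  (flat_hom_iff p ι).1 h.flat b hb

theorem ker_eq_span (h : FrobAlg.IsLift p k A B ι π) : RingHom.ker π = Ideal.span {(p : B)} :=
  h.ker_eq.trans (map_ker_res p ι)

theorem proj_eq_zero_iff (h : FrobAlg.IsLift p k A B ι π) {b : B} :
    π b = 0 ↔ ∃ c : B, b = (p : B) * c := by
  rw [← RingHom.mem_ker, ker_eq_span p h, Ideal.mem_span_singleton]
  rfl

theorem proj_eq_of_p_mul_eq (h : FrobAlg.IsLift p k A B ι π) {b c : B} (hbc : (p : B) * b = p * c) :
    π b = π c := by
  obtain ⟨d, hd⟩ := exists_p_mul_of_p_mul_eq_zero p h (b := b - c) (by rw [mul_sub, hbc, sub_self])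
  exact sub_eq_zero.1 (by rw [← map_sub]; exact (proj_eq_zero_iff p h).2 ⟨d, hd⟩)

/-- `wlift` of a lifting. -/
noncomputable def liftW (h : FrobAlg.IsLift p k A B ι π) : TruncatedWittVector p 2 A →+* B :=
  wlift p π h.surj (ker_eq_span p h) (p_sq_of_hom p ι)

theorem liftW_truncMap_algebraMap (h : FrobAlg.IsLift p k A B ι π) (x : FrobAlg.W2 p k) :
    liftW p h (WittGrp.truncMap p 2 (algebraMap k A) x) = ι (FrobAlg.sigma p k x) := by
  have hc : ∀ c : k, algebraMap k A c = π (ι (tm p c)) := fun c => by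
    have := RingHom.congr_fun h.comm (tm p c)
    simpa using this.symm
  have hx : WittGrp.truncMap p 2 (algebraMap k A) x =
      mk2 p (π (ι (tm p (x.coeff 0)))) (π (ι (tm p (x.coeff 1)))) := by
    refine ext2 p ?_ ?_
    · rw [WittGrp.coeff_truncMap, mk2_coeff_zero]; exact hc _
    · rw [WittGrp.coeff_truncMap, mk2_coeff_one]; exact hc _
  rw [hx, liftW, wlift_mk2, ← map_natCast ι, ← map_pow, ← map_mul, ← map_add]
  congr 1
  have hpow : ∀ (a : k) (n : ℕ), tm p (a ^ n) = tm p a ^ n := fun a n => by simp [tm, map_pow]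
  rw [p_mul p (CharP.cast_eq_zero k p), tm_coeff_zero, ← hpow,
    decomp p (FrobAlg.sigma p k x), WittGrp.coeff_frob, WittGrp.coeff_frob]

theorem isFrobLift_comp (h : FrobAlg.IsLift p k A B ι π) (θ : B →+* TruncatedWittVector p 2 A)
    (hres : (FrobAlg.res p A).comp θ = π)
    (hι : θ.comp ι = WittGrp.truncMap p 2 (algebraMap k A)) :
    FrobAlg.IsFrobLift p k A B ι π ((liftW p h).comp θ) := by
  refine { h with semi := RingHom.ext fun x => ?_, red := fun b => ?_ }
  · have := RingHom.congr_fun hι x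
    rw [RingHom.comp_apply] at this
    rw [RingHom.comp_apply, RingHom.comp_apply, this, liftW_truncMap_algebraMap, RingHom.comp_apply]
  · rw [RingHom.comp_apply, liftW, proj_wlift]
    have := RingHom.congr_fun hres b
    simp only [RingHom.comp_apply, FrobAlg.res_apply] at this
    rw [this]

theorem eq_of_res_of_liftW (h : FrobAlg.IsLift p k A B ι π) {x y : TruncatedWittVector p 2 A}
    (h0 : x.coeff 0 = y.coeff 0) (hw : liftW p h x = liftW p h y) : x = y := by
  obtain ⟨a, ha⟩ := h.surj (x.coeff 0)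
  obtain ⟨b, hb⟩ := h.surj (x.coeff 1)
  obtain ⟨c, hc⟩ := h.surj (y.coeff 1)
  have hx : x = mk2 p (π a) (π b) := ext2 p (by simp [ha]) (by simp [hb])
  have hy : y = mk2 p (π a) (π c) := ext2 p (by simp [ha, h0]) (by simp [hc])
  rw [hx, hy, liftW, wlift_mk2, wlift_mk2, add_right_inj] at hw
  rw [hx, hy, proj_eq_of_p_mul_eq p h hw]

theorem exists_hom_of_isFrobLift {Φ : B →+* B} (h : FrobAlg.IsFrobLift p k A B ι π Φ) :
    ∃ θ : B →+* TruncatedWittVector p 2 A,
      (FrobAlg.res p A).comp θ = π ∧ θ.comp ι = WittGrp.truncMap p 2 (algebraMap k A) := by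
  have hl := h.toIsLift
  have hex : ∀ b : B, ∃ c : B, Φ b = b ^ p + p * c := fun b => by
    obtain ⟨c, hc⟩ := (proj_eq_zero_iff p hl (b := Φ b - b ^ p)).1 (by rw [map_sub, map_pow, h.red, sub_self])
    exact ⟨c, by rw [← hc, add_sub_cancel]⟩
  choose δ hδ using hex
  let θ : B → TruncatedWittVector p 2 A := fun b => mk2 p (π b) (π (δ b))
  have h0 : ∀ b, (θ b).coeff 0 = π b := fun b => rfl
  have hw : ∀ b, liftW p hl (θ b) = Φ b := fun b => by
    change liftW p hl (mk2 p (π b) (π (δ b))) = Φ b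
    rw [liftW, wlift_mk2, hδ]
  refine ⟨{ toFun := θ, map_one' := ?_, map_mul' := fun x y => ?_, map_zero' := ?_,
            map_add' := fun x y => ?_ }, ?_, ?_⟩
  · exact eq_of_res_of_liftW p hl (by rw [h0, map_one, coeff0_one]) (by rw [hw, map_one, map_one])
  · exact eq_of_res_of_liftW p hl (by rw [h0, map_mul, coeff0_mul, h0, h0])
      (by rw [hw, map_mul, map_mul, hw, hw])
  · exact eq_of_res_of_liftW p hl (by rw [h0, map_zero, TruncatedWittVector.coeff_zero])
      (by rw [hw, map_zero, map_zero])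
  · exact eq_of_res_of_liftW p hl (by rw [h0, map_add, coeff0_add, h0, h0])
      (by rw [hw, map_add, map_add, hw, hw])
  · exact RingHom.ext fun b => by simp [h0]
  · refine RingHom.ext fun x => eq_of_res_of_liftW p hl ?_ ?_
    · change π (ι x) = _
      rw [WittGrp.coeff_truncMap]
      simpa using RingHom.congr_fun hl.comm x
    · change liftW p hl (θ (ι x)) = _
      rw [hw, liftW_truncMap_algebraMap]
      simpa using RingHom.congr_fun h.semi x

end lift

end Groth.Agent.WittTwo
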