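import Groth.Agent.WittTwo.Lift
import Mathlib.RingTheory.EssentialFiniteness
import Mathlib.RingTheory.Flat.Localization
import Mathlib.RingTheory.Flat.FaithfullyFlat.Algebra
import Mathlib.RingTheory.Localization.Submodule
import Mathlib.RingTheory.Polynomial.Basic

/-!
# Descending liftability to `W₂(k)` along faithfully flat maps
-/

namespace Groth.Agent.WittTwo

open TensorProduct

universe u

theorem isNoetherianRing_W2 (p : ℕ) [Fact p.Prime] (k : Type*) [Field k] [CharP k p] [PerfectRing k p] :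
    IsNoetherianRing (FrobAlg.W2 p k) := by
  classical
  refine ⟨fun I => ?_⟩
  by_cases hu : ∃ x ∈ I, x.coeff 0 ≠ 0
  · obtain ⟨x, hxI, hx⟩ := hu
    rw [Ideal.eq_top_of_isUnit_mem I hxI (isUnit_of_coeff0 p k hx)]
    exact ⟨{1}, by simp⟩
  push Not at hu
  by_cases hp0 : (p : FrobAlg.W2 p k) ∈ I
  · refine ⟨{(p : FrobAlg.W2 p k)}, ?_⟩
    rw [Finset.coe_singleton]
    refine le_antisymm (Submodule.span_le.2 (Set.singleton_subset_iff.2 hp0)) fun x hx => ?_
    obtain ⟨y, rfl⟩ := exists_eq_p_mul p k (hu x hx)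
    exact Ideal.mul_mem_right _ _ (Ideal.mem_span_singleton_self _)
  · refine ⟨∅, ?_⟩
    rw [Finset.coe_empty, Submodule.span_empty, eq_comm, Submodule.eq_bot_iff]
    intro x hx
    obtain ⟨y, rfl⟩ := exists_eq_p_mul p k (hu x hx)
    by_contra hne
    refine hp0 ?_
    have hy : y.coeff 0 ≠ 0 := fun hy => by
      obtain ⟨z, rfl⟩ := exists_eq_p_mul p k hy
      exact hne (by rw [← mul_assoc, p_sq p (CharP.cast_eq_zero k p), zero_mul])
    exact (Ideal.mul_unit_mem_iff_mem I (isUnit_of_coeff0 p k hy)).1 hx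

/-- Solvability of a linear system descends along faithfully flat maps. -/
theorem exists_solution_of_faithfullyFlat {A B : Type u} [CommRing A] [CommRing B] [Algebra A B]
    [Module.FaithfullyFlat A B] {ι κ : Type*} [Fintype ι] [Fintype κ] (M : κ → ι → A) (v : κ → A)
    (e : ι → B) (he : ∀ j, algebraMap A B (v j) = ∑ i, algebraMap A B (M j i) * e i) :
    ∃ d : ι → A, ∀ j, v j = ∑ i, M j i * d i := by
  classical
  let N : Submodule A (κ → A) := Submodule.span A (Set.range fun i => fun j => M j i)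
  have hv : v ∈ N := by
    rw [← Submodule.Quotient.mk_eq_zero N]
    refine Module.FaithfullyFlat.tensorProduct_mk_injective (A := A) (B := B) ((κ → A) ⧸ N) ?_
    rw [map_zero]
    have hsum : ∀ w : κ → A, N.mkQ w = ∑ j, w j • N.mkQ (Pi.single j 1) := fun w => by
      conv_lhs => rw [show w = ∑ j, w j • Pi.single j (1 : A) by
        ext l; simp [Finset.sum_apply, Pi.single_apply]]
      simp only [map_sum, map_smul]
    calc (1 : B) ⊗ₜ[A] N.mkQ v = ∑ j, algebraMap A B (v j) ⊗ₜ[A] N.mkQ (Pi.single j 1) := by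
          rw [hsum, TensorProduct.tmul_sum]
          exact Finset.sum_congr rfl fun j _ => by rw [Algebra.algebraMap_eq_smul_one, TensorProduct.smul_tmul]
      _ = ∑ i, e i ⊗ₜ[A] N.mkQ (fun j => M j i) := by
          simp only [he, TensorProduct.sum_tmul]
          rw [Finset.sum_comm]
          refine Finset.sum_congr rfl fun i _ => ?_
          rw [hsum (fun j => M j i), TensorProduct.tmul_sum]
          exact Finset.sum_congr rfl fun j _ => by rw [← Algebra.smul_def, TensorProduct.smul_tmul]
      _ = 0 := Finset.sum_eq_zero fun i _ => by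
          rw [Submodule.mkQ_apply, (Submodule.Quotient.mk_eq_zero N).2 (Submodule.subset_span ⟨i, rfl⟩ : (fun j => M j i) ∈ N)]
          exact TensorProduct.tmul_zero _ _
  obtain ⟨d, hd⟩ := (Submodule.mem_span_range_iff_exists_fun A).1 hv
  refine ⟨d, fun j => ?_⟩
  rw [← hd]
  simp [Finset.sum_apply, mul_comm]

variable (p : ℕ) [Fact p.Prime] {k : Type u} [Field k] [CharP k p] [PerfectRing k p]

/-- A flat lifting descends along a faithfully flat map. -/
theorem isW2Liftable_of_faithfullyFlat {A B : Type u} [CommRing A] [CommRing B] [Algebra k A]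
    [Algebra.EssFiniteType k A] [Algebra A B] [Module.FaithfullyFlat A B] [Algebra k B] [IsScalarTower k A B]
    (hB : FrobAlg.IsW2Liftable p k B) : FrobAlg.IsW2Liftable p k A := by
  classical
  obtain ⟨B', _, ιB, πB, hlift⟩ := hB
  haveI := isNoetherianRing_W2 p k
  obtain ⟨σ, hσ⟩ := (Algebra.essFiniteType_iff k A).1 inferInstance
  -- the smooth algebra over `W₂`
  let P := MvPolynomial σ (FrobAlg.W2 p k)
  let φP : P →+* A := MvPolynomial.eval₂Hom ((algebraMap k A).comp (FrobAlg.res p k)) fun a => (a : A)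
  have hrange : ∀ a ∈ Algebra.adjoin k (σ : Set A), a ∈ φP.range := by
    intro a ha
    induction ha using Algebra.adjoin_induction with
    | mem x hx => exact ⟨MvPolynomial.X (⟨x, hx⟩ : σ), MvPolynomial.eval₂Hom_X' _ _ _⟩
    | algebraMap c =>
      refine ⟨MvPolynomial.C (tm p c), (MvPolynomial.eval₂Hom_C _ _ _).trans ?_⟩
      rw [RingHom.comp_apply, FrobAlg.res_apply, tm_coeff_zero]
    | add x y _ _ hx hy => exact add_mem hx hy
    | mul x y _ _ hx hy => exact mul_mem hx hy
  let U : Submonoid P := (IsUnit.submonoid A).comap φP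
  let S := Localization U
  let πS : S →+* A := IsLocalization.lift (M := U) (g := φP) fun u => u.2
  have hπS : Function.Surjective πS := by
    intro a
    obtain ⟨t, ht, htu, hta⟩ := hσ a
    obtain ⟨t', rfl⟩ := hrange t ht
    obtain ⟨n', hn'⟩ := hrange _ hta
    refine ⟨IsLocalization.mk' S n' (⟨t', htu⟩ : U), ?_⟩
    rw [IsLocalization.lift_mk'_spec, hn', mul_comm]
  let ιS : FrobAlg.W2 p k →+* S := (algebraMap P S).comp (MvPolynomial.C)
  have hιS : πS.comp ιS = (algebraMap k A).comp (FrobAlg.res p k) := by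
    refine RingHom.ext fun x => ?_
    simp only [ιS, RingHom.comp_apply, πS, IsLocalization.lift_eq]
    exact MvPolynomial.eval₂Hom_C _ _ _
  have hflatS : ∀ s : S, (p : S) * s = 0 → ∃ s', s = (p : S) * s' := by
    haveI : Module.Flat P S := IsLocalization.flat S U
    haveI : Module.Flat (FrobAlg.W2 p k) S := Module.Flat.trans (FrobAlg.W2 p k) P S
    intro s hs
    obtain ⟨s', hs'⟩ := (flat_iff p k S).1 inferInstance s (by simpa [Algebra.smul_def] using hs)
    exact ⟨s', by simpa [Algebra.smul_def] using hs'⟩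
  have hpA : (p : A) = 0 := p_eq_zero p (k := k) A
  have hp0 : ∀ s : S, πS ((p : S) * s) = 0 := fun s => by rw [map_mul, map_natCast, hpA, zero_mul]
  -- the relations
  obtain ⟨r, g, hg⟩ : ∃ (r : ℕ) (g : Fin r → S), Ideal.span (Set.range g) = RingHom.ker πS :=
    Submodule.fg_iff_exists_fin_generating_family.1 (IsNoetherian.noetherian _)
  let R : Submodule S (Fin r → S) :=
    Submodule.comap (Fintype.linearCombination S g) (Ideal.span {(p : S)})
  obtain ⟨q, ρ, hρ⟩ : ∃ (q : ℕ) (ρ : Fin q → Fin r → S), Submodule.span S (Set.range ρ) = R :=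
    Submodule.fg_iff_exists_fin_generating_family.1 (IsNoetherian.noetherian _)
  have hρR : ∀ j, ∃ e : S, ∑ i, ρ j i * g i = (p : S) * e := by
    intro j
    have h : ρ j ∈ R := hρ ▸ Submodule.subset_span ⟨j, rfl⟩
    obtain ⟨e, he⟩ := Ideal.mem_span_singleton.1 (Submodule.mem_comap.1 h)
    exact ⟨e, by rw [← he, Fintype.linearCombination_apply]; rfl⟩
  choose eρ heρ using hρR
  -- the map to the lifting of `B`
  choose y hy using fun a : σ => hlift.surj (algebraMap A B a)
  let hP : P →+* B' := MvPolynomial.eval₂Hom ιB y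
  have hPπ : πB.comp hP = (algebraMap A B).comp φP := by
    refine MvPolynomial.ringHom_ext (fun x => ?_) fun a => ?_
    · simp only [RingHom.comp_apply, hP, φP, MvPolynomial.eval₂Hom_C]
      rw [← IsScalarTower.algebraMap_apply]
      exact RingHom.congr_fun hlift.comm x
    · simp [hP, φP, hy]
  have hunit : ∀ u : U, IsUnit (hP u) := by
    intro u
    have h1 : IsUnit (πB (hP u)) := by
      rw [← RingHom.comp_apply, hPπ]
      exact (show IsUnit (φP u) from u.2).map (algebraMap A B)
    obtain ⟨b, hb⟩ := hlift.surj (↑h1.unit⁻¹ : B)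
    obtain ⟨c, hc⟩ := (proj_eq_zero_iff p hlift (b := hP u * b - 1)).1 (by
      rw [map_sub, map_mul, hb, map_one, IsUnit.mul_val_inv, sub_self])
    refine isUnit_of_mul_isUnit_left (y := b) ?_
    rw [show hP u * b = 1 + (p : B') * c by rw [← hc]; ring]
    exact IsNilpotent.isUnit_one_add ⟨2, by rw [pow_two, mul_mul_mul_comm, p_sq_of_hom p ιB, zero_mul]⟩
  let h : S →+* B' := IsLocalization.lift (M := U) (g := hP) hunit
  have hπ : ∀ s, πB (h s) = algebraMap A B (πS s) := fun s => by
    have : πB.comp h = (algebraMap A B).comp πS := IsLocalization.ringHom_ext U (by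
      simp only [RingHom.comp_assoc, h, πS, IsLocalization.lift_comp]
      exact hPπ)
    exact RingHom.congr_fun this s
  have hgB : ∀ i, ∃ c : B', h (g i) = (p : B') * c := fun i => by
    refine (proj_eq_zero_iff p hlift).1 ?_
    rw [hπ, show πS (g i) = 0 from RingHom.mem_ker.1 (hg ▸ Ideal.subset_span ⟨i, rfl⟩), map_zero]
  choose c hc using hgB
  -- descend the correction
  obtain ⟨d, hd⟩ := exists_solution_of_faithfullyFlat (A := A) (B := B) (fun j i => πS (ρ j i))
    (fun j => πS (eρ j)) (fun i => πB (c i)) fun j => by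
      rw [← hπ]
      have h1 : (p : B') * h (eρ j) = (p : B') * ∑ i, h (ρ j i) * c i := by
        rw [← map_natCast h, ← map_mul, ← heρ, map_sum, map_natCast, Finset.mul_sum]
        exact Finset.sum_congr rfl fun i _ => by rw [map_mul, hc]; ring
      rw [proj_eq_of_p_mul_eq p hlift h1, map_sum]
      exact Finset.sum_congr rfl fun i _ => by rw [map_mul, hπ]
  choose d' hd' using fun i => hπS (d i)
  -- the lifting
  let J : Ideal S := Ideal.span (Set.range fun i => g i - (p : S) * d' i)
  have hJ : J ≤ RingHom.ker πS := Ideal.span_le.2 (by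
    rintro _ ⟨i, rfl⟩
    rw [SetLike.mem_coe, RingHom.mem_ker, map_sub, hp0, sub_zero]
    exact RingHom.mem_ker.1 (hg ▸ Ideal.subset_span ⟨i, rfl⟩))
  have hker : ∀ s, πS s = 0 → ∃ s', s - (p : S) * s' ∈ J := by
    intro s hs
    have : s ∈ Ideal.span (Set.range g) := hg.symm ▸ RingHom.mem_ker.2 hs
    obtain ⟨a, ha⟩ := (Submodule.mem_span_range_iff_exists_fun S).1 this
    refine ⟨∑ i, a i * d' i, ?_⟩
    rw [← ha, Finset.mul_sum, ← Finset.sum_sub_distrib]
    refine Submodule.sum_mem _ fun i _ => ?_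
    rw [smul_eq_mul, show a i * g i - (p : S) * (a i * d' i) = a i * (g i - (p : S) * d' i) by ring]
    exact Ideal.mul_mem_left _ _ (Ideal.subset_span ⟨i, rfl⟩)
  have hrel : ∀ (a : Fin r → S) (e : S), ∑ i, a i * g i = (p : S) * e → πS e = ∑ i, πS (a i) * d i := by
    intro a e he
    have haR : a ∈ R := by
      rw [Submodule.mem_comap, Fintype.linearCombination_apply]
      simp only [smul_eq_mul]
      rw [he]
      exact Ideal.mul_mem_right _ _ (Ideal.mem_span_singleton_self _)
    rw [← hρ] at haR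
    obtain ⟨b, hb⟩ := (Submodule.mem_span_range_iff_exists_fun S).1 haR
    have hai : ∀ i, a i = ∑ j, b j * ρ j i := fun i => by
      rw [← hb]; simp [Finset.sum_apply]
    have h1 : (p : S) * (e - ∑ j, b j * eρ j) = 0 := by
      rw [mul_sub, ← he, Finset.mul_sum, sub_eq_zero]
      simp only [hai, Finset.sum_mul]
      rw [Finset.sum_comm]
      refine Finset.sum_congr rfl fun j _ => ?_
      rw [mul_left_comm, ← heρ, Finset.mul_sum]
      exact Finset.sum_congr rfl fun i _ => mul_assoc _ _ _
    obtain ⟨s', hs'⟩ := hflatS _ h1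
    rw [eq_add_of_sub_eq hs', map_add, hp0, zero_add, map_sum]
    simp only [hai, map_sum, map_mul, Finset.sum_mul]
    rw [Finset.sum_comm]
    refine Finset.sum_congr rfl fun j _ => ?_
    rw [hd j, Finset.mul_sum]
    exact Finset.sum_congr rfl fun i _ => by ring
  refine ⟨S ⧸ J, inferInstance, (Ideal.Quotient.mk J).comp ιS, Ideal.Quotient.lift J πS fun a ha => hJ ha,
    ⟨?_, Ideal.Quotient.lift_surjective_of_surjective _ _ hπS, ?_, ?_⟩⟩
  · rw [flat_hom_iff p]
    intro b hb
    obtain ⟨s, rfl⟩ := Ideal.Quotient.mk_surjective b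
    rw [← map_natCast (Ideal.Quotient.mk J), ← map_mul, Ideal.Quotient.eq_zero_iff_mem] at hb
    obtain ⟨a, ha⟩ := (Submodule.mem_span_range_iff_exists_fun S).1 hb
    have h1 : ∑ i, a i * g i = (p : S) * (s + ∑ i, a i * d' i) := by
      rw [mul_add, ← ha, Finset.mul_sum, ← Finset.sum_add_distrib]
      exact Finset.sum_congr rfl fun i _ => by rw [smul_eq_mul]; ring
    have h2 := hrel a _ h1
    rw [map_add, map_sum] at h2
    simp only [map_mul, hd'] at h2
    obtain ⟨s', hs'⟩ := hker s (add_eq_right.1 h2)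
    refine ⟨Ideal.Quotient.mk J s', ?_⟩
    rw [← map_natCast (Ideal.Quotient.mk J), ← map_mul, Ideal.Quotient.eq]
    exact hs'
  · rw [ker_res, Ideal.map_span, Set.image_singleton, map_natCast]
    refine le_antisymm (fun b hb => ?_) ?_
    · obtain ⟨s, rfl⟩ := Ideal.Quotient.mk_surjective b
      rw [RingHom.mem_ker, Ideal.Quotient.lift_mk] at hb
      obtain ⟨s', hs'⟩ := hker s hb
      rw [Ideal.Quotient.eq.2 hs', map_mul, map_natCast]
      exact Ideal.mul_mem_right _ _ (Ideal.mem_span_singleton_self _)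
    · rw [Ideal.span_le, Set.singleton_subset_iff, SetLike.mem_coe, RingHom.mem_ker, map_natCast, hpA]
  · refine RingHom.ext fun x => ?_
    exact RingHom.congr_fun hιS x

end Groth.Agent.WittTwo
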